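import Cfsg.Agent.Lib.Helper12.TC.HeP2x168.Tab
import Cfsg.Agent.Lib.Helper12.TC.HeP2Pres

/-! the final table for HeP2x168 (generated, helper12) -/

set_option autoImplicit false
set_option maxRecDepth 100000
set_option linter.unusedSimpArgs false

namespace Cfsg.Agent.Lib.Helper12.TC.HeP2x168

open Cfsg.Agent.Lib.Helper12.TC Cfsg.Agent.Lib.Helper12.TC.HeP2Pres

theorem hdefs : defsK F cD = true := by decide +kernel

theorem hfin : finK F cK 4 finrecs = true := by decide +kernel

theorem hlen : finrecs.length = cN := by decide +kernel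

theorem hrelc : relCheckK RW cR0 cR (baseL Cfsg.Agent.Lib.Helper12.Ord.HeP2.edges gen 4 extraWords) rotW sw = true := by
  decide +kernel

theorem hlet : lettersK 4 (baseL Cfsg.Agent.Lib.Helper12.Ord.HeP2.edges gen 4 extraWords) = true := by decide +kernel

end Cfsg.Agent.Lib.Helper12.TC.HeP2x168
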