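import Cfsg.Agent.Lib.Helper12.TC.HeP2x168.Main
import Cfsg.Agent.Lib.Helper12.Ord.SubPres

/-! the bound for the order from HeP2x168 (generated, helper12) -/

set_option autoImplicit false

namespace Cfsg.Agent.Lib.Helper12.TC.HeP2x168

open Cfsg.Agent.Lib.Helper12.TC Cfsg.Agent.Lib.Helper12.Ord

theorem card_eq : Finite (PresentedGroup (Cfsg.Spor.coxRelators Cfsg.Agent.Lib.Helper12.Ord.HeP2.edges ∪
      {r | r ∈ Cfsg.Agent.Lib.Helper12.Ord.HeP2.extra})) ∧
    Nat.card (PresentedGroup (Cfsg.Spor.coxRelators Cfsg.Agent.Lib.Helper12.Ord.HeP2.edges ∪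
      {r | r ∈ Cfsg.Agent.Lib.Helper12.Ord.HeP2.extra})) = cN := by
  refine card_of_index_bot _ cN (by decide) main.1 ?_
  rw [show S = ∅ from rfl, Subgroup.closure_empty, Subgroup.map_bot]

end Cfsg.Agent.Lib.Helper12.TC.HeP2x168
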